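import Cfsg.Agent.SubdegreeThree.Interval
import Cfsg.Agent.Sims60.Basic

/-!
# Sims' theorem on primitive groups with a suborbit of length three
-/

set_option autoImplicit false

namespace CfsgLib.SubdegThree

open Subgroup CfsgLib.SimsInterval
open scoped Pointwise

variable {G : Type*} [Group G] [Finite G]

/-- The bound on the `2`-part. -/
theorem length_le_four (H P : Subgroup G) (g : G) (hPH : P ≤ H) (hidx : P.relIndex H = 3)
    (hshift : MulAut.conj g⁻¹ • P ≤ H) (hne : MulAut.conj g⁻¹ • P ≠ P)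
    (hP2 : IsPGroup 2 P) (hcoatom : IsCoatom H) (hg : g ∉ H) (hfree : ∀ N : Subgroup G, N.Normal → N ≤ H → N = ⊥)
    (hnormH : normalizer (H : Set G) ≤ H) :
    ∃ k : ℕ, k ≤ 4 ∧ Nat.card P = 2 ^ k := by
  classical
  haveI : Fact (Nat.Prime 2) := ⟨Nat.prime_two⟩
  set P' := MulAut.conj g⁻¹ • P with hP'
  have hcard : Nat.card P' = Nat.card P :=
    (Subgroup.card_map_of_injective (MulAut.conj g⁻¹).injective)
  have hHcard : Nat.card P * 3 = Nat.card H := by
    rw [← hidx, ← Nat.card_congr (subgroupOfEquivOfLe hPH).toEquiv]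
    exact card_mul_index _
  have hnle : ¬ P' ≤ P := fun h => hne (Subgroup.eq_of_le_of_card_ge h hcard.ge)
  have hsup : P ⊔ P' = H := sup_eq_of_prime_index hPH Nat.prime_three hidx hshift hnle
  have hrel : (P ⊓ P').relIndex P' = 2 := by
    rw [inf_relIndex_right]
    have h1 : P.relIndex P' ≤ 3 := hidx ▸
      relIndex_le_of_le_right hshift (by rw [hidx]; norm_num)
    have h2 : P.relIndex P' ∣ Nat.card P' := by
      rw [← inf_relIndex_right]; exact index_dvd_card _
    have h3 : P.relIndex P' ≠ 1 := fun h => hnle (relIndex_eq_one.1 h)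
    obtain ⟨k, hk⟩ := hP2.exists_card_eq
    rw [hcard, hk] at h2
    obtain ⟨i, -, hi⟩ := (Nat.dvd_prime_pow Nat.prime_two).1 h2
    rw [hi] at h1 h3 ⊢
    rcases i with _ | _ | i
    · simp at h3
    · rfl
    · have : 4 ≤ 2 ^ (i + 1 + 1) := by
        rw [show i + 1 + 1 = i + 2 by ring, pow_add]; have := Nat.one_le_two_pow (n := i); omega
      omega
  have hdata : Data P g 2 := by
    refine ⟨Nat.prime_two, normal_of_index_eq_two hrel, hrel, fun Q hQP hQn hQg => ?_⟩
    have hQ1 : P ≤ normalizer (Q : Set G) := (normal_subgroupOf_iff_le_normalizer hQP).1 hQn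
    have hgN : g ∈ normalizer (Q : Set G) := mem_normalizer_iff_map_conj_eq.2 hQg
    have hP'N : P' ≤ normalizer (Q : Set G) := by
      rintro _ ⟨y, hy, rfl⟩
      show g⁻¹ * y * g⁻¹⁻¹ ∈ normalizer (Q : Set G)
      exact mul_mem (mul_mem (inv_mem hgN) (hQ1 hy)) (inv_mem (inv_mem hgN))
    have htop : normalizer (Q : Set G) = ⊤ :=
      hcoatom.2 _ (lt_of_le_of_ne (hsup ▸ sup_le hQ1 hP'N) fun h => hg (h ▸ hgN))
    exact hfree Q (normalizer_eq_top_iff.1 htop) (hQP.trans hPH)
  set K := ⨆ i ∈ Finset.range (2 + 1), MulAut.conj (g ^ i)⁻¹ • P with hK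
  have hKi : ∀ i ∈ Finset.range (2 + 1), MulAut.conj (g ^ i)⁻¹ • P ≤ K := fun i hi =>
    le_iSup₂ (f := fun i _ => MulAut.conj (g ^ i)⁻¹ • P) i hi
  have hKtop : K = ⊤ := by
    have h0 : P ≤ K := by simpa using hKi 0 (by simp)
    have h1 : P' ≤ K := by
      have h := hKi 1 (by simp)
      rwa [pow_one, ← hP'] at h
    have h2 : MulAut.conj g⁻¹ • P' ≤ K := by
      refine le_trans (le_of_eq ?_) (hKi 2 (by simp))
      rw [hP', smul_smul, ← map_mul, sq, mul_inv_rev]
    have hH : H ≤ K := hsup ▸ sup_le h0 h1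
    have hH' : MulAut.conj g⁻¹ • H ≤ K := by
      rw [← hsup, smul_sup]; exact sup_le h1 h2
    by_contra hne'
    have heq : K = H := (hcoatom.le_iff.1 hH).resolve_left hne'
    rw [heq] at hH'
    refine hg ?_
    have : g⁻¹ ∈ normalizer (H : Set G) := mem_normalizer_iff_map_conj_eq.2
      (Subgroup.eq_of_le_of_card_ge hH' (Subgroup.card_map_of_injective (MulAut.conj g⁻¹).injective).ge)
    simpa using inv_mem (hnormH this)
  have hcen : P ⊓ (center K).map K.subtype = ⊥ := by
    refine hfree _ ⟨fun y hy h => ?_⟩ (inf_le_left.trans hPH)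
    obtain ⟨z, hz, hzy⟩ := hy.2
    have hhy : h * y * h⁻¹ = y := by
      have := congrArg Subtype.val (mem_center_iff.1 hz ⟨h, hKtop ▸ mem_top h⟩)
      change h * (z : G) = (z : G) * h at this
      rw [← hzy]
      show h * (z : G) * h⁻¹ = z
      rw [this, mul_inv_cancel_right]
    rwa [hhy]
  obtain ⟨t, ht, -, ht6, ht5⟩ := order_bound hdata (n := 2) (by norm_num) hK hcen
  refine ⟨t, ?_, ht⟩
  by_contra ht4
  obtain rfl : t = 6 := by omega
  obtain ⟨x, m, -, hP, hc⟩ := exists_generators hdata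
  have hm : m = 6 := by
    rw [hP, hc m le_rfl] at ht
    exact Nat.pow_right_injective (le_refl 2) ht
  subst hm
  have hKle : K ≤ itv g x 0 8 := by
    rw [hK]
    refine iSup₂_le fun i hi => ?_
    rw [Finset.mem_range] at hi
    show P.map (MulAut.conj (g ^ i)⁻¹).toMonoidHom ≤ _
    rw [hP, itv, MonoidHom.map_closure, closure_le]
    rintro _ ⟨_, ⟨k, ⟨h1, h2⟩, rfl⟩, rfl⟩
    refine subset_closure ⟨k + i, ⟨by omega, by omega⟩, ?_⟩
    simp only [gen, MulEquiv.coe_toMonoidHom, MulAut.conj_apply, inv_inv, ← zpow_natCast g i]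
    group
  have htop : itv g x 0 8 = ⊤ := top_le_iff.1 (hKtop ▸ hKle)
  -- the commuting distance is four
  have hex : ∃ k : ℕ, k = 6 ∨ ¬ Commute (gen g x 0) (gen g x k) := ⟨6, Or.inl rfl⟩
  set u := Nat.find hex with hu
  have hum : u ≤ 6 := Nat.find_le (Or.inl rfl)
  have hu0 : 0 < u := by
    rw [Nat.pos_iff_ne_zero]
    intro e
    rcases Nat.find_spec hex with h' | h'
    · omega
    · rw [← hu, e, Nat.cast_zero] at h'; exact h' (Commute.refl _)
  have hbase : ∀ k : ℕ, k < u → Commute (gen g x 0) (gen g x k) := fun k hk => by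
    have := Nat.find_min hex hk
    push Not at this
    exact this.2
  have hcomm : ∀ i j : ℤ, |i - j| < u → Commute (gen g x i) (gen g x j) := by
    intro i j hij
    rw [abs_lt] at hij
    rcases le_total i j with hle | hle
    · have := commute_shift i (hbase (j - i).toNat (by omega))
      rwa [zero_add, Int.toNat_of_nonneg (by omega), sub_add_cancel] at this
    · have := commute_shift j (hbase (i - j).toNat (by omega))
      rw [zero_add, Int.toNat_of_nonneg (by omega), sub_add_cancel] at this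
      exact this.symm
  have hu4 : 2 * u ≤ 6 + 2 :=
    two_mul_le_center hP hc (by push_cast; norm_num; exact hKle) hcen
      (hKtop ▸ le_top) hum hu0 hcomm
  have hu6 : u ≠ 6 := by omega
  have hnc : ¬ Commute (gen g x 0) (gen g x u) := (Nat.find_spec hex).resolve_left hu6
  have hkey := two_mul_le hc (by omega) hcomm hnc
  have hu' : u = 4 := by omega
  rw [hu'] at hcomm hnc
  push_cast at hcomm hnc
  refine not_length_six hc hcomm hnc htop fun A hA hAn => ?_
  exact hfree A (normalizer_eq_top_iff.1 hAn) (hA.trans ((hP ▸ le_rfl : itv g x 0 (6 : ℕ) ≤ P).trans hPH))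

/-- Sims' theorem. -/
theorem sims_three {Ω : Type*} [MulAction G Ω] [FaithfulSMul G Ω]
    (hprim : MulAction.IsPreprimitive G Ω) (a b : Ω)
    (h3 : Nat.card (MulAction.orbit (MulAction.stabilizer G a) b) = 3) :
    ∃ k : ℕ, k ≤ 4 ∧ Nat.card (MulAction.stabilizer G a) = 2 ^ k * 3 := by
  classical
  haveI := hprim.toIsPretransitive
  haveI : Finite Ω := Finite.of_surjective (fun g : G => g • a) fun y => MulAction.exists_smul_eq G a y
  obtain ⟨⟨e⟩, hne, hn, hi⟩ := CfsgLib.Sims60.setting hprim a b h3 (by norm_num)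
  set H := MulAction.stabilizer G a with hHdef
  set K := MulAction.stabilizer G b with hKdef
  have hab : a ≠ b := fun h => hne (by rw [hHdef, hKdef, h])
  haveI : Nontrivial Ω := ⟨a, b, hab⟩
  have hcoH : IsCoatom H := MulAction.IsPreprimitive.isCoatom_stabilizer_of_isPreprimitive G a
  have hcoK : IsCoatom K := MulAction.IsPreprimitive.isCoatom_stabilizer_of_isPreprimitive G b
  have hfree : ∀ N : Subgroup G, N.Normal → N ≤ H → N = ⊥ := fun N hN hNH => by
    refine (Subgroup.eq_bot_iff_forall _).2 fun y hy => eq_of_smul_eq_smul fun w : Ω => ?_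
    obtain ⟨h, rfl⟩ := MulAction.exists_smul_eq G a w
    have h1 := MulAction.mem_stabilizer_iff.1 (hNH (hN.conj_mem y hy h⁻¹))
    rw [inv_inv, mul_smul, mul_smul, inv_smul_eq_iff] at h1
    rw [h1, one_smul]
  set D := H ⊓ K with hD
  have hidx : D.relIndex H = 3 := hi
  have hidxK : D.relIndex K = 3 := by
    have h1 := card_mul_index (D.subgroupOf H)
    have h2 := card_mul_index (D.subgroupOf K)
    rw [Nat.card_congr (subgroupOfEquivOfLe (inf_le_left : D ≤ H)).toEquiv, show (D.subgroupOf H).index = 3 from hidx] at h1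
    rw [Nat.card_congr (subgroupOfEquivOfLe (inf_le_right : D ≤ K)).toEquiv, ← Nat.card_congr e.toEquiv, ← h1] at h2
    exact Nat.eq_of_mul_eq_mul_left Nat.card_pos h2
  have hHD : Nat.card H = Nat.card D * 3 := by
    rw [← hidx, ← Nat.card_congr (subgroupOfEquivOfLe (inf_le_left : D ≤ H)).toEquiv]
    exact (card_mul_index _).symm
  obtain ⟨p, N, hp, hNn, hNp, hNK, hNidx, -⟩ := CfsgLib.Sims60.exists_pSubgroup e hne (hn a) (hn b) hi
  have h48 : N.index ∣ 48 := hNidx
  have h3N : 3 ∣ N.index := by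
    have : N ≤ D.subgroupOf H := fun y hy => ⟨y.2, hNK ⟨y, hy, rfl⟩⟩
    rw [← hidx]; exact index_dvd_of_le this
  haveI := Fact.mk hp
  by_cases hN : N = ⊥
  · rw [hN, index_bot] at h48
    have h3' : 3 ∣ Nat.card H := ⟨_, hHD.trans (mul_comm _ _)⟩
    obtain ⟨c, hc⟩ := h3'
    rw [hc, show (48 : ℕ) = 3 * 2 ^ 4 by norm_num] at h48
    obtain ⟨k, hk, hk'⟩ := (Nat.dvd_prime_pow Nat.prime_two).1
      ((Nat.mul_dvd_mul_iff_left (by norm_num)).1 h48)
    exact ⟨k, hk, by rw [hc, hk', mul_comm]⟩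
  by_cases hp2 : p = 2
  swap
  · exfalso
    -- `N` would be the common Sylow subgroup of `D`
    set NG := N.map H.subtype with hNG
    have hND : NG ≤ D := le_inf (map_subtype_le _) hNK
    have hNHn : H ≤ normalizer (NG : Set G) := CfsgLib.Sims60.le_normalizer_map_normal N
    obtain ⟨p', N', hp', hN'n, hN'p, hN'H, hN'idx, -⟩ := CfsgLib.Sims60.exists_pSubgroup e.symm hne.symm
      (hn b) (hn a) (d := 3) (by rw [inf_comm]; exact hidxK)
    set NG' := N'.map K.subtype with hNG'
    have hND' : NG' ≤ D := le_inf hN'H (map_subtype_le _)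
    have hN'Kn : K ≤ normalizer (NG' : Set G) := CfsgLib.Sims60.le_normalizer_map_normal N'
    -- prime to `2` parts
    have hNpow : ∃ r, Nat.card NG = p ^ r := (hNp.map H.subtype).exists_card_eq
    have hcardN : Nat.card NG * N.index = Nat.card H := by
      rw [hNG, card_map_of_injective H.subtype_injective]; exact card_mul_index N
    haveI := Fact.mk hp'
    have hN'pow : ∃ r, Nat.card NG' = p' ^ r := (hN'p.map K.subtype).exists_card_eq
    have hcardN' : Nat.card NG' * N'.index = Nat.card H := by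
      rw [hNG', card_map_of_injective K.subtype_injective, Nat.card_congr e.toEquiv]; exact card_mul_index N'
    obtain ⟨r, hr⟩ := hNpow
    obtain ⟨r', hr'⟩ := hN'pow
    have hr0 : r ≠ 0 := fun h => hN (by
      apply map_injective H.subtype_injective
      rw [Subgroup.map_bot]
      exact Subgroup.eq_bot_of_card_eq _ (by rw [hr, h, pow_zero]))
    obtain ⟨i, hi3⟩ : ∃ i, N.index = 3 * i := h3N
    have h3N' : 3 ∣ N'.index := by
      have : N' ≤ D.subgroupOf K := fun y hy => ⟨hN'H ⟨y, hy, rfl⟩, y.2⟩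
      rw [← hidxK]; exact index_dvd_of_le this
    obtain ⟨i', hi3'⟩ : ∃ i', N'.index = 3 * i' := h3N'
    have hi16 : i ∣ 16 := (Nat.mul_dvd_mul_iff_left (a := 3) (by norm_num)).1 (hi3 ▸ h48)
    have hi16' : i' ∣ 16 := (Nat.mul_dvd_mul_iff_left (a := 3) (by norm_num)).1 (hi3' ▸ hN'idx)
    have heq : p ^ r * i = p' ^ r' * i' := by
      rw [hr, hi3] at hcardN
      rw [hr', hi3'] at hcardN'
      have := hcardN.trans hcardN'.symm
      rw [mul_left_comm, mul_left_comm (p' ^ r')] at this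
      omega
    have hcop : ∀ j, Nat.Coprime p j → j ∣ 16 → (p ^ r).Coprime j := fun j h _ => h.pow_left r
    have hpi : ∀ j, j ∣ 16 → Nat.Coprime p j := fun j hj =>
      Nat.Coprime.coprime_dvd_right hj (Nat.Coprime.pow_right 4 ((Nat.coprime_primes hp Nat.prime_two).2 hp2))
    have hdvd : p ^ r ∣ p' ^ r' := ((hpi i' hi16').pow_left r).dvd_of_dvd_mul_right (heq ▸ dvd_mul_right _ _)
    have hpp' : p = p' := (Nat.prime_dvd_prime_iff_eq hp hp').1
      (hp.dvd_of_dvd_pow ((dvd_pow_self p hr0).trans hdvd))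
    subst hpp'
    have hdvd' : p ^ r' ∣ p ^ r := ((hpi i hi16).pow_left r').dvd_of_dvd_mul_right (heq ▸ dvd_mul_right _ _)
    have hrr : p ^ r = p ^ r' := Nat.dvd_antisymm hdvd hdvd'
    -- the product is a `p`-subgroup of `D`
    have hsupP : IsPGroup p (NG ⊔ NG' : Subgroup G) :=
      (hNp.map H.subtype).to_sup_of_normal_left' (hN'p.map K.subtype) ((hND'.trans inf_le_left).trans hNHn)
    obtain ⟨s, hs⟩ := hsupP.exists_card_eq
    have hsD : Nat.card (NG ⊔ NG' : Subgroup G) ∣ Nat.card D := card_dvd_of_le (sup_le hND hND')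
    have hDi : Nat.card D = p ^ r * i := by
      rw [hr, hi3, hHD] at hcardN
      rw [mul_left_comm] at hcardN
      omega
    rw [hs, hDi] at hsD
    have h5 : p ^ s ∣ p ^ r := ((hpi i hi16).pow_left s).dvd_of_dvd_mul_right hsD
    have hsr : NG ⊔ NG' = NG := (Subgroup.eq_of_le_of_card_ge le_sup_left
      (by rw [hs, hr]; exact Nat.le_of_dvd (pow_pos hp.pos _) h5)).symm
    have hsr' : NG ⊔ NG' = NG' := (Subgroup.eq_of_le_of_card_ge le_sup_right
      (by rw [hs, hr', ← hrr]; exact Nat.le_of_dvd (pow_pos hp.pos _) h5)).symm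
    have hNeq : NG = NG' := hsr.symm.trans hsr'
    have htop : normalizer (NG : Set G) = ⊤ := by
      by_contra h
      have h1 := (hcoH.le_iff.1 hNHn).resolve_left h
      have h2 := (hcoK.le_iff.1 (hNeq ▸ hN'Kn : K ≤ normalizer (NG : Set G))).resolve_left h
      exact hne (h1.symm.trans h2)
    refine hN (map_injective H.subtype_injective ?_)
    rw [Subgroup.map_bot]
    exact hfree _ (normalizer_eq_top_iff.1 htop) (map_subtype_le _)
  -- `D` is a `2`-group
  subst hp2
  obtain ⟨r, hr⟩ := hNp.exists_card_eq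
  obtain ⟨i, hi3⟩ := h3N
  have hi16 : i ∣ 2 ^ 4 := (Nat.mul_dvd_mul_iff_left (a := 3) (by norm_num)).1 (hi3 ▸ h48)
  obtain ⟨j, -, hj⟩ := (Nat.dvd_prime_pow Nat.prime_two).1 hi16
  have hD2 : IsPGroup 2 D := by
    refine IsPGroup.of_card (n := r + j) ?_
    have := card_mul_index N
    rw [hr, hi3, hj, hHD, mul_left_comm, ← pow_add] at this
    omega
  -- choose the shift
  obtain ⟨g₀, hg₀⟩ := MulAction.exists_smul_eq G a b
  have hgfix : ∀ g : G, g • a = b → g ∉ H ∧ MulAut.conj g⁻¹ • D ≤ H := by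
    refine fun g hg => ⟨fun h => hab ((MulAction.mem_stabilizer_iff.1 h).symm.trans hg), ?_⟩
    rintro _ ⟨y, hy, rfl⟩
    show g⁻¹ * y * g⁻¹⁻¹ ∈ H
    rw [inv_inv, hHdef, MulAction.mem_stabilizer_iff, mul_smul, mul_smul, hg,
      MulAction.mem_stabilizer_iff.1 hy.2, inv_smul_eq_iff, hg]
  by_cases hexg : ∃ h ∈ H, MulAut.conj (g₀ * h)⁻¹ • D ≠ D
  · obtain ⟨h, hh, hne'⟩ := hexg
    have hgh : (g₀ * h) • a = b := by rw [mul_smul, MulAction.mem_stabilizer_iff.1 hh, hg₀]
    obtain ⟨k, hk, hDk⟩ := length_le_four H D (g₀ * h) inf_le_left hidx (hgfix _ hgh).2 hne' hD2 hcoH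
      (hgfix _ hgh).1 hfree (fun y hy => by
        by_cases hb : H = ⊥
        · exfalso
          rw [hb, Subgroup.card_bot] at hHD
          omega
        exact hn a H le_rfl hb le_normalizer hy)
    exact ⟨k, hk, by rw [hHD, hDk]⟩
  · refine ⟨0, by norm_num, ?_⟩
    push Not at hexg
    have hall : ∀ h ∈ H, g₀ * h ∈ normalizer (D : Set G) := fun h hh => by
      simpa using inv_mem (mem_normalizer_iff_map_conj_eq.2 (hexg h hh) : (g₀ * h)⁻¹ ∈ normalizer (D : Set G))
    have hg0 := hall 1 (one_mem H)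
    rw [mul_one] at hg0
    have hHN : H ≤ normalizer (D : Set G) := fun h hh => by
      have := mul_mem (inv_mem hg0) (hall h hh)
      rwa [inv_mul_cancel_left] at this
    have htop : normalizer (D : Set G) = ⊤ :=
      hcoH.2 _ (lt_of_le_of_ne hHN fun h => (hgfix g₀ hg₀).1 (h ▸ hg0))
    rw [hHD, hfree D (normalizer_eq_top_iff.1 htop) inf_le_left, Subgroup.card_bot, pow_zero]

end CfsgLib.SubdegThree
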