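import Cfsg.Agent.SimsInterval.Basic

/-!
# Sims generators of length six are impossible when three shifts generate the group
-/

set_option autoImplicit false

namespace CfsgLib.SubdegThree

open Subgroup CfsgLib.SimsInterval
open scoped Pointwise

variable {G : Type*} [Group G] [Finite G] {g x : G}

section

variable {m : ℕ} (hc : ∀ k : ℕ, k ≤ m → Nat.card (itv g x 0 k) = 2 ^ k)
include hc

theorem itv_card {a b : ℤ} (hab : a ≤ b) (hm : b - a ≤ m) :
    Nat.card (itv g x a b) = 2 ^ (b - a).toNat := by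
  haveI : Fact (Nat.Prime 2) := ⟨Nat.prime_two⟩
  exact card_itv hc hab hm

theorem gen_mul_self (hm : 1 ≤ m) (i : ℤ) : gen g x i * gen g x i = 1 := by
  have h1 := itv_card hc (show i ≤ i + 1 by omega) (by omega)
  have h2 := pow_card_eq_one' (x := (⟨gen g x i, gen_mem_itv le_rfl (by omega)⟩ : itv g x i (i + 1)))
  rw [h1, show (i + 1 - i).toNat = 1 by omega, pow_one, sq] at h2
  exact congrArg Subtype.val h2

theorem gen_notMem {a b : ℤ} (hab : a ≤ b) (hm : b + 1 - a ≤ m) : gen g x b ∉ itv g x a b := by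
  intro h
  have hle : itv g x a (b + 1) ≤ itv g x a b := by
    rw [← itv_sup (g := g) (x := x) hab (show b ≤ b + 1 by omega)]
    refine sup_le le_rfl ?_
    rw [itv, closure_le]
    rintro _ ⟨k, ⟨h1, h2⟩, rfl⟩
    rwa [show k = b by omega]
  have := Subgroup.card_le_of_le hle
  rw [itv_card hc (by omega) hm, itv_card hc hab (by omega)] at this
  have := (Nat.pow_le_pow_iff_right one_lt_two).1 this
  omega

theorem first_notMem {a b : ℤ} (hab : a < b) (hm : b - a ≤ m) : gen g x a ∉ itv g x (a + 1) b := by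
  intro h
  have hle : itv g x a b ≤ itv g x (a + 1) b := by
    rw [← itv_sup (g := g) (x := x) (show a ≤ a + 1 by omega) (show a + 1 ≤ b by omega)]
    refine sup_le ?_ le_rfl
    rw [itv, closure_le]
    rintro _ ⟨k, ⟨h1, h2⟩, rfl⟩
    rwa [show k = a by omega]
  have := Subgroup.card_le_of_le hle
  rw [itv_card hc (by omega) hm, itv_card hc (by omega) (by omega)] at this
  have := (Nat.pow_le_pow_iff_right one_lt_two).1 this
  omega

theorem mem_or_mul_mem {A : Subgroup G} {a b : ℤ} (hab : a ≤ b) (hm : b - a ≤ m) (hA : A ≤ itv g x a b)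
    (hcard : Nat.card A * 2 = Nat.card (itv g x a b)) {w y : G} (hw : w ∈ itv g x a b) (hwA : w ∉ A)
    (hy : y ∈ itv g x a b) : y ∈ A ∨ y * w ∈ A := by
  have hidx : (A.subgroupOf (itv g x a b)).index = 2 := by
    have h := (A.subgroupOf (itv g x a b)).card_mul_index
    rw [Nat.card_congr (subgroupOfEquivOfLe hA).toEquiv, ← hcard] at h
    exact Nat.eq_of_mul_eq_mul_left Nat.card_pos h
  by_cases hyA : y ∈ A
  · exact Or.inl hyA
  · right
    exact (Subgroup.mul_mem_iff_of_index_two hidx (a := ⟨y, hy⟩) (b := ⟨w, hw⟩)).2 (iff_of_false hyA hwA)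

theorem itv_last {a b : ℤ} (hab : a ≤ b) (hm : b + 1 - a ≤ m) {y : G} (hy : y ∈ itv g x a (b + 1)) :
    y ∈ itv g x a b ∨ y * gen g x b ∈ itv g x a b :=
  mem_or_mul_mem hc (by omega) hm (itv_mono le_rfl (by omega))
    (by rw [itv_card hc hab (by omega), itv_card hc (by omega) hm, ← pow_succ]; congr 1; omega)
    (gen_mem_itv (by omega) (by omega)) (gen_notMem hc hab hm) hy

theorem itv_first {a b : ℤ} (hab : a < b) (hm : b - a ≤ m) {y : G} (hy : y ∈ itv g x a b) :
    y ∈ itv g x (a + 1) b ∨ y * gen g x a ∈ itv g x (a + 1) b :=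
  mem_or_mul_mem hc hab.le hm (itv_mono (by omega) le_rfl)
    (by rw [itv_card hc (by omega) (by omega), itv_card hc hab.le hm, ← pow_succ]; congr 1; omega)
    (gen_mem_itv le_rfl hab) (first_notMem hc hab hm) hy

end

omit [Finite G] in
theorem commute_of_itv {a b : ℤ} {z : G} (h : ∀ k, a ≤ k → k < b → Commute (gen g x k) z) {y : G}
    (hy : y ∈ itv g x a b) : Commute y z := by
  have hle : itv g x a b ≤ centralizer {z} := by
    rw [itv, closure_le]
    rintro _ ⟨k, ⟨h1, h2⟩, rfl⟩
    exact mem_centralizer_singleton_iff.2 (h k h1 h2).eq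
  exact mem_centralizer_singleton_iff.1 (hle hy)

omit [Finite G] in
theorem shift_mem {a b : ℤ} (k : ℤ) {y : G} (hy : y ∈ itv g x a b) :
    g ^ (-k) * y * (g ^ (-k))⁻¹ ∈ itv g x (a + k) (b + k) := by
  have hle : itv g x a b ≤ (itv g x (a + k) (b + k)).comap (MulAut.conj (g ^ (-k))).toMonoidHom := by
    rw [itv, closure_le]
    rintro _ ⟨l, ⟨h1, h2⟩, rfl⟩
    show g ^ (-k) * gen g x l * (g ^ (-k))⁻¹ ∈ itv g x (a + k) (b + k)
    rw [show g ^ (-k) * gen g x l * (g ^ (-k))⁻¹ = gen g x (l + k) by simp only [gen]; group]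
    exact gen_mem_itv (by omega) (by omega)
  exact hle hy

omit [Finite G] in
theorem conj_comm_shift (i j k : ℤ) :
    g ^ (-k) * (gen g x i * gen g x j * gen g x i * gen g x j) * (g ^ (-k))⁻¹ =
      gen g x (i + k) * gen g x (j + k) * gen g x (i + k) * gen g x (j + k) := by
  simp only [gen]; group

omit [Finite G] in
theorem sq_mul_of_commute {a b : G} (h : Commute a b) : a * b * (a * b) = a * a * (b * b) := by
  simp only [mul_assoc]
  rw [← mul_assoc b a, ← h.eq, mul_assoc]

omit [Finite G] in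
theorem absorb {a b c : G} (ha : Commute c a) (hb : Commute c b) (hc : c * c = 1) :
    a * (c * b) * a * (c * b) = a * b * a * b := by
  have e1 : a * (c * b) = a * b * c := by rw [hb.eq, mul_assoc]
  rw [mul_assoc (a * (c * b)) a, e1, sq_mul_of_commute ((ha.mul_right hb).symm), hc, mul_one,
    mul_assoc (a * b) a]

/-- Length six is impossible. -/
theorem not_length_six (hc : ∀ k : ℕ, k ≤ 6 → Nat.card (itv g x 0 k) = 2 ^ k)
    (hcomm : ∀ i j : ℤ, |i - j| < 4 → Commute (gen g x i) (gen g x j))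
    (hnc : ¬ Commute (gen g x 0) (gen g x 4))
    (htop : itv g x 0 8 = ⊤) (hcore : ∀ A : Subgroup G, A ≤ itv g x 0 6 →
      normalizer (A : Set G) = ⊤ → A = ⊥) : False := by
  haveI : Fact (Nat.Prime 2) := ⟨Nat.prime_two⟩
  set e : ℤ → G := gen g x with he
  have hsq : ∀ i, e i * e i = 1 := fun i => gen_mul_self hc (by norm_num) i
  have hinv : ∀ i, (e i)⁻¹ = e i := fun i => inv_eq_of_mul_eq_one_right (hsq i)
  have hcm : ∀ i j, i - j < 4 → j - i < 4 → Commute (e i) (e j) := fun i j h1 h2 =>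
    hcomm i j (by rw [abs_lt]; omega)
  set D : ℤ → ℤ → G := fun i j => e i * e j * e i * e j with hD
  have hDmem : ∀ i j, i < j → j - i < 6 → D i j ∈ itv g x (i + 1) j := fun i j h1 h2 => by
    have := commutator_mem hc h1 h2 (mem_zpowers (e i)) (mem_zpowers (e j))
    rwa [hinv, hinv] at this
  have hDshift : ∀ i j k a b, D i j ∈ itv g x a b → D (i + k) (j + k) ∈ itv g x (a + k) (b + k) :=
    fun i j k a b h => by
      have := shift_mem k h
      rwa [show g ^ (-k) * D i j * (g ^ (-k))⁻¹ = D (i + k) (j + k) from conj_comm_shift i j k] at this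
  have hconj : ∀ i j, e i * e j * e i = D i j * e j := fun i j => by
    rw [hD]; simp only [mul_assoc, hsq, mul_one]
  have hconj' : ∀ i j, e j * e i * e j = e i * D i j := fun i j => by
    rw [hD]; simp only [← mul_assoc, hsq, one_mul]
  -- `e 1` and `e 5` do not commute
  have hnc15 : ¬ Commute (e 1) (e 5) := fun h => hnc (by
    have := commute_shift (g := g) (x := x) (-1) h
    norm_num at this
    exact this)
  have hsq15 : e 1 * e 5 * (e 1 * e 5) ≠ 1 := fun h => hnc15 (by
    show e 1 * e 5 = e 5 * e 1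
    rw [eq_inv_of_mul_eq_one_left h, mul_inv_rev, hinv, hinv])
  -- elements of `⟨e 2, e 3, e 4⟩`
  have hz : ∀ y ∈ itv g x 2 5, Commute y (e 1) ∧ Commute y (e 5) ∧ y * y = 1 := by
    intro y hy
    refine ⟨commute_of_itv (fun k h1 h2 => hcm k 1 (by omega) (by omega)) hy,
      commute_of_itv (fun k h1 h2 => hcm k 5 (by omega) (by omega)) hy, ?_⟩
    rcases itv_last hc (a := 2) (b := 4) (by norm_num) (by norm_num) hy with h | h
    all_goals
      have hh : ∀ y ∈ itv g x 2 4, y * y = 1 ∧ Commute y (e 4) := by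
        intro y hy
        refine ⟨?_, commute_of_itv (fun k h1 h2 => hcm k 4 (by omega) (by omega)) hy⟩
        rcases itv_last hc (a := 2) (b := 3) (by norm_num) (by norm_num) hy with h | h
        · rcases itv_last hc (a := 2) (b := 2) (by norm_num) (by norm_num) h with h | h
          · rw [itv_self, mem_bot] at h; rw [h, mul_one]
          · rw [itv_self, mem_bot] at h
            rw [eq_inv_of_mul_eq_one_left h, hinv, hsq]
        · rcases itv_last hc (a := 2) (b := 2) (by norm_num) (by norm_num) h with h | h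
          · rw [itv_self, mem_bot] at h
            rw [eq_inv_of_mul_eq_one_left h, hinv, hsq]
          · rw [itv_self, mem_bot] at h
            have h' : y = (e 2) * e 3 := by
              have h0 := eq_inv_of_mul_eq_one_left h
              rw [hinv, mul_assoc] at *
              calc y = y * (e 3 * e 3) := by rw [hsq, mul_one]
                _ = y * e 3 * e 3 := by rw [mul_assoc]
                _ = e 2 * e 3 := by rw [h0]
            rw [h', sq_mul_of_commute (hcm 2 3 (by norm_num) (by norm_num)), hsq, hsq, mul_one]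
    · exact (hh y h).1
    · obtain ⟨h1, h2⟩ := hh _ h
      rw [show y = y * e 4 * e 4 by rw [mul_assoc, hsq, mul_one], sq_mul_of_commute h2, h1, hsq, mul_one]
  -- refine `D 0 5` and `D 1 6`
  have h05 : D 0 5 ∈ itv g x 2 5 := by
    rcases itv_first hc (a := 1) (b := 5) (by norm_num) (by norm_num) (hDmem 0 5 (by norm_num) (by norm_num))
      with h | h
    · exact h
    · exfalso
      obtain ⟨z1, z5, z2⟩ := hz _ h
      apply hsq15
      have hd : D 0 5 = D 0 5 * e 1 * e 1 := by rw [mul_assoc, hsq, mul_one]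
      have h1 : (e 0 * e 5 * e 0) * (e 0 * e 5 * e 0) = 1 := by
        simp only [mul_assoc]; rw [← mul_assoc (e 0) (e 0), hsq, one_mul, ← mul_assoc (e 5) (e 5), hsq,
          one_mul, hsq]
      rw [hconj, hd, mul_assoc _ (e 1) (e 5),
        sq_mul_of_commute (show Commute (D 0 5 * e 1) (e 1 * e 5) from z1.mul_right z5),
        z2, one_mul] at h1
      exact h1
  have h16 : D 1 6 ∈ itv g x 2 5 := by
    rcases itv_last hc (a := 2) (b := 5) (by norm_num) (by norm_num) (hDmem 1 6 (by norm_num) (by norm_num))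
      with h | h
    · exact h
    · exfalso
      obtain ⟨z1, z5, z2⟩ := hz _ h
      apply hsq15
      have hd : D 1 6 = e 5 * (D 1 6 * e 5) := by
        rw [← z5.eq, mul_assoc, hsq, mul_one]
      have h1 : (e 6 * e 1 * e 6) * (e 6 * e 1 * e 6) = 1 := by
        simp only [mul_assoc]; rw [← mul_assoc (e 6) (e 6), hsq, one_mul, ← mul_assoc (e 1) (e 1), hsq,
          one_mul, hsq]
      rw [hconj', hd, ← mul_assoc (e 1) (e 5),
        sq_mul_of_commute (show Commute (e 1 * e 5) (D 1 6 * e 5) from (z1.mul_right z5).symm),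
        z2, mul_one] at h1
      exact h1
  -- `D 1 5` is central in `⟨e 0, …, e 6⟩`
  have hd15 : D 1 5 ∈ itv g x 2 5 := hDmem 1 5 (by norm_num) (by norm_num)
  have hc0 : Commute (D 1 5) (e 0) := by
    obtain ⟨z1, z5, z2⟩ := hz _ h05
    have h1 : e 0 * D 1 5 * e 0 = D 1 5 := by
      show e 0 * (e 1 * e 5 * e 1 * e 5) * e 0 = e 1 * e 5 * e 1 * e 5
      have h01 : e 0 * e 1 * e 0 = e 1 := by
        rw [(hcm 0 1 (by norm_num) (by norm_num)).eq, mul_assoc, hsq, mul_one]
      calc e 0 * (e 1 * e 5 * e 1 * e 5) * e 0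
          = (e 0 * e 1 * e 0) * (e 0 * e 5 * e 0) * (e 0 * e 1 * e 0) * (e 0 * e 5 * e 0) := by
            simp only [mul_assoc]; simp only [← mul_assoc (e 0) (e 0), hsq, one_mul]
        _ = e 1 * (D 0 5 * e 5) * e 1 * (D 0 5 * e 5) := by rw [h01, hconj]
        _ = e 1 * e 5 * e 1 * e 5 := absorb z1 z5 z2
    show D 1 5 * e 0 = e 0 * D 1 5
    conv_lhs => rw [← h1]
    rw [mul_assoc, hsq, mul_one]
  have hc6 : Commute (D 1 5) (e 6) := by
    obtain ⟨z1, z5, z2⟩ := hz _ h16
    have h1 : e 6 * D 1 5 * e 6 = D 1 5 := by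
      show e 6 * (e 1 * e 5 * e 1 * e 5) * e 6 = e 1 * e 5 * e 1 * e 5
      have h65 : e 6 * e 5 * e 6 = e 5 := by
        rw [(hcm 6 5 (by norm_num) (by norm_num)).eq, mul_assoc, hsq, mul_one]
      calc e 6 * (e 1 * e 5 * e 1 * e 5) * e 6
          = (e 6 * e 1 * e 6) * (e 6 * e 5 * e 6) * (e 6 * e 1 * e 6) * (e 6 * e 5 * e 6) := by
            simp only [mul_assoc]; simp only [← mul_assoc (e 6) (e 6), hsq, one_mul]
        _ = e 1 * D 1 6 * e 5 * (e 1 * D 1 6) * e 5 := by rw [h65, hconj']
        _ = e 1 * e 5 * e 1 * e 5 := by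
            have h := absorb z1 z5 z2
            simp only [mul_assoc] at h ⊢
            exact h
    show D 1 5 * e 6 = e 6 * D 1 5
    conv_lhs => rw [← h1]
    rw [mul_assoc, hsq, mul_one]
  have h15a : D 1 5 ∈ itv g x 2 4 := by
    rcases itv_last hc (a := 2) (b := 4) (by norm_num) (by norm_num) hd15 with h | h
    · exact h
    · exfalso
      refine hnc (Commute.symm ?_)
      have h2 : Commute (D 1 5 * e 4) (e 0) :=
        commute_of_itv (fun k h1 h2 => hcm k 0 (by omega) (by omega)) h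
      have h3 := hc0.inv_left.mul_left h2
      rwa [inv_mul_cancel_left] at h3
  have h15 : D 1 5 ∈ itv g x 3 4 := by
    rcases itv_first hc (a := 2) (b := 4) (by norm_num) (by norm_num) h15a with h | h
    · exact h
    · exfalso
      refine hnc ?_
      have h2 : Commute (D 1 5 * e 2) (e 6) :=
        commute_of_itv (fun k h1 h2 => hcm k 6 (by omega) (by omega)) h
      have h3 := hc6.inv_left.mul_left h2
      rw [inv_mul_cancel_left] at h3
      have h4 := commute_shift (g := g) (x := x) (-2) h3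
      norm_num at h4
      exact h4
  -- `⟨e 2, …, e 5⟩` is normal
  set E := itv g x 2 6 with hE
  have hmono : ∀ {a b : ℤ} {y : G}, 2 ≤ a → b ≤ 6 → y ∈ itv g x a b → y ∈ E := fun h1 h2 hy =>
    itv_mono h1 h2 hy
  have hgenE : ∀ k : ℤ, 2 ≤ k → k < 6 → e k ∈ E := fun k h1 h2 => gen_mem_itv h1 h2
  have hleft : ∀ i j : ℤ, 2 ≤ j → j < 6 → D i j ∈ E → e i * e j * e i ∈ E := fun i j h1 h2 h => by
    rw [hconj]; exact mul_mem h (hgenE j h1 h2)
  have hright : ∀ i j : ℤ, 2 ≤ i → i < 6 → D i j ∈ E → e j * e i * e j ∈ E := fun i j h1 h2 h => by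
    rw [hconj']; exact mul_mem (hgenE i h1 h2) h
  have hkey : ∀ i k : ℤ, 0 ≤ i → i < 8 → 2 ≤ k → k < 6 → e i * e k * (e i)⁻¹ ∈ E := by
    intro i k i0 i1 k0 k1
    rw [hinv]
    by_cases hclose : i - k < 4 ∧ k - i < 4
    · rw [(hcm i k hclose.1 hclose.2).eq, mul_assoc, hsq, mul_one]
      exact hgenE k k0 k1
    · have h04 := hDshift 1 5 (-1) 3 4 h15
      have h26 := hDshift 1 5 1 3 4 h15
      have h37 := hDshift 1 5 2 3 4 h15
      have h27 := hDshift 1 6 1 2 5 h16
      norm_num at h04 h26 h37 h27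
      interval_cases i <;> interval_cases k <;> (try omega)
      · exact hleft 0 4 k0 k1 (hmono le_rfl (by norm_num) h04)
      · exact hleft 0 5 k0 k1 (hmono le_rfl (by norm_num) h05)
      · exact hleft 1 5 k0 k1 (hmono le_rfl (by norm_num) hd15)
      · exact hright 2 6 k0 k1 (hmono (by norm_num) (by norm_num) h26)
      · exact hright 2 7 k0 k1 (hmono (by norm_num) (by norm_num) h27)
      · exact hright 3 7 k0 k1 (hmono (by norm_num) (by norm_num) h37)
  have hnorm : normalizer (E : Set G) = ⊤ := by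
    rw [eq_top_iff, ← htop, itv, closure_le]
    rintro _ ⟨i, ⟨i0, i1⟩, rfl⟩
    have hmap : E.map (MulAut.conj (e i)).toMonoidHom ≤ E := by
      rw [hE, itv, MonoidHom.map_closure, closure_le]
      rintro _ ⟨_, ⟨k, ⟨k0, k1⟩, rfl⟩, rfl⟩
      exact hkey i k i0 i1 k0 k1
    exact mem_normalizer_iff_map_conj_eq.2 (Subgroup.eq_of_le_of_card_ge hmap
      (Subgroup.card_map_of_injective (MulAut.conj (e i)).injective).ge)
  have hbot := hcore E (itv_mono (by norm_num) le_rfl) hnorm
  have := itv_card hc (a := 2) (b := 6) (by norm_num) (by norm_num)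
  rw [← hE, hbot, Subgroup.card_bot] at this
  revert this
  decide

end CfsgLib.SubdegThree
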